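import Cfsg.Agent.H776.CY.Congr
import Cfsg.Agent.H776.CY.Noncyc
import Cfsg.Agent.H310.CY.RowE
import Cfsg.Agent.H408.CY.RowE7Four
import Cfsg.Agent.H364.CY.E7One

/-!
# S4829: the row `E₇(q)`, cross characteristic (helper230)

`rowAN_E7` : the row (no cyclic Sylow `p`-subgroups, `p` odd); `rowAN_E7_of` : from the case `p ∣ q - 1`, `5 ≤ p`, `p ≠ 7`,
which is `H364.CY.rowA_E7_ord_one`.
The cases `ord_p(q) = 2, 3, 6` and `p = 3`, `p = 7` with `p ∣ q - 1` (then `p ∣ Φ_p(q)`) are `H310.CY.rowA_E7_of_dvd`, the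
case `ord_p(q) = 4` is `H408.CY.rowA_E7_four`.
-/

set_option autoImplicit false
set_option linter.unusedSectionVars false

open Cfsg

namespace Cfsg.Agent.H230.CY

open Cfsg.Lie Cfsg.Agent.H116.RatB0 Cfsg.Agent.H770.CY

universe u

/-- `p ∣ Φ_p(q)` for `p ∣ q - 1` -/
theorem dvd_E_self {p q : ℕ} [hp : Fact p.Prime] (hd : orderOf (q : ZMod p) = 1) : (p : ℤ) ∣ H35.PoinNum.E q p := by
  rw [orderOf_eq_one_iff] at hd
  rw [H35.PoinNum.E, Polynomial.cyclotomic_prime, ← ZMod.intCast_zmod_eq_zero_iff_dvd, Polynomial.eval_finsetSum]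
  push_cast
  simp only [Polynomial.eval_pow, Polynomial.eval_X]
  push_cast
  simp [hd]

/-- **the row `E₇(q)` from its parts** -/
theorem rowAN_E7_of {p : ℕ} [hp : Fact p.Prime] (hp2 : p ≠ 2)
    (h1 : ∀ (F : Type) [Field F] [Fintype F] [Fintype ↥(chevE7.group F)], (p : F) ≠ 0 → 5 ≤ p → p ≠ 7 →
      orderOf ((Fintype.card F : ℕ) : ZMod p) = 1 → RowA p ↥(chevE7.group F)) :
    H776.CY.RowForAN p (fun X _ => ∃ (F : Type) (_ : Field F) (_ : Fintype F), (p : F) ≠ 0 ∧
      Nonempty (X ≃* Lie.chevE7.group F)) := by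
  intro X _ _ _ hX hpX hc hC
  obtain ⟨F, _, _, hpF, ⟨e⟩⟩ := hC
  have hfin : Finite ↥(chevE7.group F) := Finite.of_equiv _ e.toEquiv
  let hft : Fintype ↥(chevE7.group F) := Fintype.ofFinite _
  have hG : p ∣ Nat.card ↥(chevE7.group F) := by rwa [← Nat.card_congr e.toEquiv]
  have h := ord_cases_E7 hpF hG (H541.RatB0.noncyclic_of e hc)
  have hE := dvd_E (p := p) (not_dvd_card hpF)
  refine H776.CY.RowA.congr e ?_
  simp only [List.mem_cons, List.not_mem_nil, or_false] at h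
  rcases h with h | h | h | h | h
  · rcases eq_or_ne p 3 with rfl | h3
    · exact H310.CY.rowA_E7_of_dvd F (m := 3) (by decide) (dvd_E_self h)
    · rcases eq_or_ne p 7 with rfl | h7
      · exact H310.CY.rowA_E7_of_dvd F (m := 7) (by decide) (dvd_E_self h)
      · refine h1 F hpF ?_ h7 h
        have h2 := hp.out.two_le
        have h4 : p ≠ 4 := by
          rintro rfl
          exact absurd hp.out (by norm_num)
        omega
  · rw [h] at hE
    exact H310.CY.rowA_E7_of_dvd F (by decide) hE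
  · rw [h] at hE
    exact H310.CY.rowA_E7_of_dvd F (by decide) hE
  · exact H408.CY.rowA_E7_four F hp2 h
  · rw [h] at hE
    exact H310.CY.rowA_E7_of_dvd F (by decide) hE

/-- **the row `E₇(q)`** -/
theorem rowAN_E7 {p : ℕ} [hp : Fact p.Prime] (hp2 : p ≠ 2) :
    H776.CY.RowForAN p (fun X _ => ∃ (F : Type) (_ : Field F) (_ : Fintype F), (p : F) ≠ 0 ∧
      Nonempty (X ≃* Lie.chevE7.group F)) :=
  rowAN_E7_of hp2 fun F _ _ _ _ _ _ hd => H364.CY.rowA_E7_ord_one F hp2 hd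

end Cfsg.Agent.H230.CY
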